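import Mathlib

set_option autoImplicit false
set_option linter.style.haveILetI false
universe u
open CategoryTheory AlgebraicGeometry

namespace Groth.Agent.H17.Val

/-- a point in the closure of a quasi-compact open subset of a prime spectrum is a specialization
of a point of that subset -/
theorem exists_le_mem_of_isCompact_isOpen {A : Type*} [CommRing A] (K : Set (PrimeSpectrum A))
    (hKo : IsOpen K) (hKc : IsCompact K) (p : PrimeSpectrum A) (hp : p ∈ closure K) :
    ∃ q ∈ K, q ≤ p := by
  classical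
  obtain ⟨t, rfl⟩ := PrimeSpectrum.isCompact_isOpen_iff.mp ⟨hKc, hKo⟩
  by_contra hcon
  push Not at hcon
  have h1 : ∀ a ∈ t, ∃ s, s ∉ p.asIdeal ∧ ∃ n : ℕ, s * a ^ n = 0 := by
    intro a ha
    have hnil : IsNilpotent (algebraMap A (Localization.AtPrime p.asIdeal) a) := by
      rw [← mem_nilradical, nilradical_eq_sInf, Ideal.mem_sInf]
      intro Q hQ
      haveI : Q.IsPrime := hQ
      let q : PrimeSpectrum A := ⟨Q.comap (algebraMap A (Localization.AtPrime p.asIdeal)),
        inferInstance⟩
      have hqp : q ≤ p := by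
        change Q.comap _ ≤ p.asIdeal
        have hd := ((IsLocalization.isPrime_iff_isPrime_disjoint p.asIdeal.primeCompl
          (Localization.AtPrime p.asIdeal) Q).mp hQ).2
        intro x hx
        by_contra hxp
        exact Set.disjoint_left.mp hd (show x ∈ (p.asIdeal.primeCompl : Set A) from hxp) hx
      have hq : q ∈ PrimeSpectrum.zeroLocus (t : Set A) := by
        by_contra hq
        exact hcon q hq hqp
      exact hq ha
    obtain ⟨n, hn⟩ := hnil
    rw [← map_pow, IsLocalization.map_eq_zero_iff p.asIdeal.primeCompl] at hn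
    obtain ⟨s, hs⟩ := hn
    exact ⟨s, s.2, n, hs⟩
  choose! s hs n hn using h1
  let b := ∏ a ∈ t, s a
  have hb : b ∉ p.asIdeal := by
    intro hmem
    obtain ⟨a, ha, hsa⟩ := (Ideal.IsPrime.prod_mem_iff (hp := p.2)).mp hmem
    exact hs a ha hsa
  obtain ⟨q, hqb, hqt⟩ := mem_closure_iff.mp hp (PrimeSpectrum.basicOpen b)
    (PrimeSpectrum.basicOpen b).isOpen hb
  apply hqt
  intro a ha
  have h0 : s a * a ^ n a ∈ q.asIdeal := by rw [hn a ha]; exact zero_mem _
  rcases q.2.mem_or_mem h0 with h | h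
  · exfalso
    apply hqb
    exact Ideal.mem_of_dvd _ (Finset.dvd_prod_of_mem s ha) h
  · exact q.2.mem_of_pow_mem _ h

end Groth.Agent.H17.Val

namespace Groth.Agent.H17.Val

/-- a point in the closure of a retrocompact open subset of a scheme is a specialization of a point
of that subset -/
theorem exists_specializes_of_isRetrocompact {S : Scheme.{u}} (U : S.Opens)
    (hrc : IsRetrocompact (U : Set S)) (s : S) (hs : s ∈ closure (U : Set S)) :
    ∃ η ∈ U, η ⤳ s := by
  obtain ⟨_, ⟨V, hV, rfl⟩, hsV, -⟩ := S.isBasis_affineOpens.exists_subset_of_mem_open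
    (Set.mem_univ s) isOpen_univ
  have hV : IsAffineOpen V := hV
  let φ : Spec Γ(S, V) ⟶ S := hV.fromSpec
  have hrange : Set.range φ.base = (V : Set S) := hV.range_fromSpec
  let K : Set ↥(Spec Γ(S, V)) := φ.base ⁻¹' (U : Set S)
  have hKo : IsOpen K := U.2.preimage φ.continuous
  have hKc : IsCompact K := by
    have h1 : IsCompact ((U : Set S) ∩ V) := hrc hV.isCompact V.2
    have h2 : K = φ.base ⁻¹' ((U : Set S) ∩ V) := by
      ext x
      change φ.base x ∈ (U : Set S) ↔ φ.base x ∈ (U : Set S) ∩ V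
      rw [Set.mem_inter_iff, iff_self_and]
      intro _
      rw [← hrange]; exact ⟨x, rfl⟩
    rw [h2]
    exact (φ.isOpenEmbedding.isInducing.isCompact_preimage_iff
      (by rw [hrange]; exact Set.inter_subset_right)).mpr h1
  obtain ⟨p, hp⟩ : s ∈ Set.range φ.base := by rw [hrange]; exact hsV
  have hpK : p ∈ closure K := by
    rw [mem_closure_iff]
    intro O hO hpO
    have hO' : IsOpen (φ.base '' O) := φ.isOpenEmbedding.isOpenMap O hO
    obtain ⟨y, ⟨o, hoO, rfl⟩, hyU⟩ := mem_closure_iff.mp hs _ hO' ⟨p, hpO, hp⟩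
    exact ⟨o, hoO, hyU⟩
  obtain ⟨q, hqK, hqp⟩ := exists_le_mem_of_isCompact_isOpen (A := Γ(S, V)) K hKo hKc p hpK
  refine ⟨φ.base q, hqK, ?_⟩
  rw [← hp]
  have h3 : (q : ↥(Spec Γ(S, V))) ⤳ p := (PrimeSpectrum.le_iff_specializes q p).mp hqp
  exact h3.map φ.continuous

end Groth.Agent.H17.Val
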