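import Mathlib

set_option autoImplicit false
set_option linter.style.haveILetI false
universe u
open CategoryTheory AlgebraicGeometry IsLocalRing

namespace Groth.Agent.H17.Val

/-- Through every specialization `η ⤳ s` of points of a scheme there passes the spectrum of a
valuation ring: closed point to `s`, generic point to `η`. -/
theorem exists_valuationRing_hom {S : Scheme.{u}} (η s : S) (h : η ⤳ s) :
    ∃ (A : Type u) (_ : CommRing A) (_ : IsDomain A) (_ : ValuationRing A)
      (g : Spec (CommRingCat.of A) ⟶ S),
      g.base (closedPoint A) = s ∧ g.base (genericPoint (Spec (CommRingCat.of A))) = η := by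
  let ρ : S.presheaf.stalk s ⟶ S.residueField η := S.presheaf.stalkSpecializes h ≫ S.residue η
  obtain ⟨A, hA, hA_local⟩ := exists_factor_valuationRing ρ.hom
  let ρ' : S.presheaf.stalk s ⟶ CommRingCat.of A :=
    CommRingCat.ofHom (ρ.hom.codRestrict _ hA)
  let g : Spec (CommRingCat.of A) ⟶ S := Spec.map ρ' ≫ S.fromSpecStalk s
  refine ⟨A, inferInstance, inferInstance, inferInstance, g, ?_, ?_⟩
  · change (S.fromSpecStalk s).base ((Spec.map ρ').base (closedPoint A)) = s
    have : (Spec.map ρ').base (closedPoint A) = closedPoint (S.presheaf.stalk s) :=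
      comap_closedPoint (S := A) (ρ.hom.codRestrict A.toSubring hA)
    rw [this, S.fromSpecStalk_closedPoint]
  · have w : Spec.map (CommRingCat.ofHom (algebraMap A (S.residueField η))) ≫ g =
        S.fromSpecResidueField η := by
      rw [Scheme.fromSpecResidueField, ← Scheme.SpecMap_stalkSpecializes_fromSpecStalk h]
      simp only [g]
      simp_rw [← Spec.map_comp_assoc]
      rfl
    let pt : ↥(Spec (S.residueField η)) := closedPoint (S.residueField η)
    have hgen : genericPoint (Spec (CommRingCat.of A)) =
        (Spec.map (CommRingCat.ofHom (algebraMap A (S.residueField η)))).base pt := by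
      rw [genericPoint_eq_bot_of_affine]
      apply PrimeSpectrum.ext
      change (⊥ : Ideal A) = Ideal.comap (algebraMap A (S.residueField η))
        (IsLocalRing.maximalIdeal (S.residueField η))
      rw [IsLocalRing.maximalIdeal_eq_bot, ← RingHom.ker_eq_comap_bot]
      exact ((RingHom.injective_iff_ker_eq_bot _).mp (Subtype.val_injective)).symm
    have h2 := congrArg (fun k : Spec (S.residueField η) ⟶ S => k.base pt) w
    simp only [Scheme.Hom.comp_base, TopCat.comp_app] at h2
    rw [hgen]
    refine h2.trans ?_
    exact Scheme.fromSpecResidueField_apply _ _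

end Groth.Agent.H17.Val
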