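import Groth.Agent.H17.Val.ValMain
import Groth.Agent.H17.Val.Retro
import Groth.Agent.H17.Val.ValSpec
import Groth.Agent.H17.Chev.Equidim10
import Groth.Agent.H49.FibreDimAtBC

set_option autoImplicit false
set_option linter.style.haveILetI false
universe u
open CategoryTheory AlgebraicGeometry Limits IsLocalRing

namespace Groth.Agent.H17.Val

open Groth.Agent.H17.Chev

theorem dim_closure_asFiber_le_fibreDimAt {X Y : Scheme.{u}} (f : X ⟶ Y) [LocallyOfFiniteType f]
    (x : X) :
    topologicalKrullDim ↥(closure ({f.asFiber x} : Set ↥(f.fiber (f.base x)))) ≤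
      FlatMor.fibreDimAt f x := by
  rw [fibreDimAt_eq_stalk_add f x]
  exact le_add_of_nonneg_left ringKrullDim_nonneg_of_nontrivial

/-- lfp case -/
theorem fibreDimAt_le_of_dense_of_lfp {X S : Scheme.{u}} (f : X ⟶ S) [Flat f]
    [LocallyOfFinitePresentation f]
    (U : S.Opens) (hU : Dense (U : Set S)) (e : ℕ)
    (hle : ∀ x : X, f.base x ∈ U → FlatMor.fibreDimAt f x ≤ e) (x : X) :
    FlatMor.fibreDimAt f x ≤ e := by
  by_contra hcon
  rw [not_le] at hcon
  have h1 : (e : WithBot ℕ∞) < topologicalKrullDim ↥(f.fiber (f.base x)) :=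
    lt_of_lt_of_le hcon (fibreDimAt_le_dim_fiber f x)
  obtain ⟨ζ, hmax, hζ⟩ := exists_isMax_lt_fibreDimAt f (f.base x) e h1
  obtain ⟨W, hzW, hW⟩ := exists_open_fibreDimAt_eq_of_flat f _
    (isMax_asFiber_fiberι f (f.base x) ζ hmax)
  have hopen : IsOpen (f.base '' (W : Set X)) := f.isOpenMap _ W.2
  obtain ⟨_, ⟨x', hx'W, rfl⟩, hx'U⟩ := hU.inter_open_nonempty _ hopen ⟨_, _, hzW, rfl⟩
  have := hle x' hx'U
  rw [hW x' hx'W] at this
  exact absurd hζ (not_lt.mpr this)

/-- retrocompact case -/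
theorem fibreDimAt_le_of_dense_of_isRetrocompact {X S : Scheme.{u}} (f : X ⟶ S) [Flat f]
    [LocallyOfFiniteType f]
    (U : S.Opens) (hU : Dense (U : Set S)) (hrc : IsRetrocompact (U : Set S)) (e : ℕ)
    (hle : ∀ x : X, f.base x ∈ U → FlatMor.fibreDimAt f x ≤ e) (x : X) :
    FlatMor.fibreDimAt f x ≤ e := by
  by_contra hcon
  rw [not_le] at hcon
  obtain ⟨η, hηU, hηs⟩ := exists_specializes_of_isRetrocompact U hrc (f.base x) (hU (f.base x))
  obtain ⟨A, _, _, _, g, hg0, hg1⟩ := exists_valuationRing_hom η (f.base x) hηs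
  let fT : pullback f g ⟶ Spec (CommRingCat.of A) := pullback.snd f g
  let p : pullback f g ⟶ X := pullback.fst f g
  have hpb : IsPullback p fT f g := IsPullback.of_hasPullback f g
  obtain ⟨z', hz'x, hz't⟩ := Scheme.Pullback.exists_preimage_pullback (f := f) (g := g) x
    (closedPoint A) hg0.symm
  have hdim : FlatMor.fibreDimAt fT z' = FlatMor.fibreDimAt f x := by
    rw [Groth.Agent.H49.FibreDimAtBC.fibreDimAt_eq_of_isPullback f g fT p hpb z']
    exact congrArg _ hz'x
  have h1 : (e : WithBot ℕ∞) < topologicalKrullDim ↥(fT.fiber (fT.base z')) := by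
    rw [← hdim] at hcon
    exact lt_of_lt_of_le hcon (fibreDimAt_le_dim_fiber fT z')
  obtain ⟨ζ, hmax, hζ⟩ := exists_isMax_lt_fibreDimAt fT (fT.base z') e h1
  set z'' := (fT.fiberι (fT.base z')).base ζ with hz''
  have hmax'' : IsMax (fT.asFiber z'') := isMax_asFiber_fiberι fT _ ζ hmax
  obtain ⟨ξ, hξz, hξ⟩ := exists_specializes_of_flat_stalkMap fT z'' (Flat.stalkMap fT z'')
    (genericPoint (Spec (CommRingCat.of A))) ((genericPoint_spec _).specializes trivial)
  have h2 := dim_closure_asFiber_le_of_specializes fT z'' ξ hξz hξ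
    (dvd_total_stalk_of_valuationRing A _)
  rw [dim_closure_asFiber_eq_fibreDimAt_of_isMax_asFiber fT z'' hmax''] at h2
  have h3 := dim_closure_asFiber_le_fibreDimAt fT ξ
  have h4 : FlatMor.fibreDimAt fT ξ = FlatMor.fibreDimAt f (p.base ξ) :=
    Groth.Agent.H49.FibreDimAtBC.fibreDimAt_eq_of_isPullback f g fT p hpb ξ
  have h5 : f.base (p.base ξ) ∈ U := by
    have : f.base (p.base ξ) = g.base (fT.base ξ) := by
      rw [← Scheme.Hom.comp_apply, ← Scheme.Hom.comp_apply, hpb.w]
    rw [this, hξ, hg1]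
    exact hηU
  have h6 := hle (p.base ξ) h5
  rw [← h4] at h6
  exact absurd (lt_of_lt_of_le hζ (h2.trans (h3.trans h6))) (lt_irrefl _)

end Groth.Agent.H17.Val
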