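import Mathlib
import Groth.Prelude.Def_EGA43

set_option autoImplicit false
set_option linter.style.haveILetI false
universe u
open CategoryTheory AlgebraicGeometry

namespace Groth.Agent.H17.Val

/-- Pointwise version: if `comap ψ` is open at `p` (on basic opens), the generic point of the domain
`V` lifts to a generization of `p`. -/
theorem exists_le_comap_eq_bot_of_isOpenAt {V B : Type*} [CommRing V] [IsDomain V] [CommRing B]
    (ψ : V →+* B) (p : PrimeSpectrum B)
    (hopen : ∀ s : B, s ∉ p.asIdeal →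
      PrimeSpectrum.comap ψ '' (PrimeSpectrum.basicOpen s : Set (PrimeSpectrum B)) ∈
        nhds (PrimeSpectrum.comap ψ p)) :
    ∃ q : PrimeSpectrum B, q ≤ p ∧ q.asIdeal.comap ψ = ⊥ := by
  classical
  let M : Submonoid B := (Submonoid.map ψ (nonZeroDivisors V)) ⊔ p.asIdeal.primeCompl
  have hdisj : Disjoint ((⊥ : Ideal B) : Set B) (M : Set B) := by
    rw [Set.disjoint_left]
    intro b hb hbM
    have hb0 : b = 0 := hb
    subst hb0
    obtain ⟨b1, hb1, s, hs, hprod⟩ := Submonoid.mem_sup.mp hbM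
    obtain ⟨a, ha, rfl⟩ := hb1
    have ha0 : a ≠ 0 := nonZeroDivisors.ne_zero ha
    have hs' : s ∉ p.asIdeal := hs
    have hO := hopen s hs'
    have hbot : (⊥ : PrimeSpectrum V) ⤳ PrimeSpectrum.comap ψ p :=
      (PrimeSpectrum.le_iff_specializes _ _).mp bot_le
    have hmem : (⊥ : PrimeSpectrum V) ∈
        PrimeSpectrum.comap ψ '' (PrimeSpectrum.basicOpen s : Set (PrimeSpectrum B)) :=
      mem_of_mem_nhds (hbot hO)
    obtain ⟨q', hq's, hq'⟩ := hmem
    have h0 : ψ a * s ∈ q'.asIdeal := by rw [hprod]; exact zero_mem _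
    rcases q'.2.mem_or_mem h0 with h | h
    · have : a ∈ (PrimeSpectrum.comap ψ q').asIdeal := h
      rw [hq'] at this
      exact ha0 this
    · exact hq's h
  obtain ⟨q, hqprime, -, hqM⟩ := Ideal.exists_le_prime_disjoint ⊥ M hdisj
  refine ⟨⟨q, hqprime⟩, ?_, ?_⟩
  · change q ≤ p.asIdeal
    intro x hx
    by_contra hxp
    exact Set.disjoint_left.mp hqM hx (Submonoid.mem_sup_right (show x ∈ p.asIdeal.primeCompl from hxp))
  · rw [eq_bot_iff]
    intro a ha
    by_contra ha0
    have ha0' : a ≠ 0 := ha0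
    have : ψ a ∈ M := Submonoid.mem_sup_left ⟨a, mem_nonZeroDivisors_of_ne_zero ha0', rfl⟩
    exact Set.disjoint_left.mp hqM ha this

/-- If a morphism to the spectrum of a domain is open at a point `z`, then `z` has a generization
lying over the generic point. -/
theorem exists_specializes_map_eq_bot_of_isOpenAt {V : Type u} [CommRing V] [IsDomain V]
    {Z : Scheme.{u}} (g : Z ⟶ Spec (CommRingCat.of V)) (z : Z) (hopen : EGA43.IsOpenAt g.base z) :
    ∃ ξ : Z, ξ ⤳ z ∧ g.base ξ = (⊥ : PrimeSpectrum V) := by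
  obtain ⟨_, ⟨W, hW, rfl⟩, hzW, -⟩ :=
    Z.isBasis_affineOpens.exists_subset_of_mem_open (Set.mem_univ z) isOpen_univ
  have hW' : IsAffineOpen W := hW
  obtain ⟨p, hp⟩ : ∃ p, hW'.fromSpec.base p = z := by
    have : z ∈ Set.range hW'.fromSpec.base := by rw [hW'.range_fromSpec]; exact hzW
    exact this
  obtain ⟨ψ, hψ⟩ := Spec.map_surjective (hW'.fromSpec ≫ g)
  have hcomp : ∀ t, PrimeSpectrum.comap ψ.hom t = g.base (hW'.fromSpec.base t) := by
    intro t
    have : (Spec.map ψ).base t = (hW'.fromSpec ≫ g).base t := by rw [hψ]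
    exact this
  obtain ⟨q, hq, hq0⟩ := exists_le_comap_eq_bot_of_isOpenAt ψ.hom p (by
    intro s hs
    have h1 : hW'.fromSpec.base '' (PrimeSpectrum.basicOpen s : Set (PrimeSpectrum Γ(Z, W))) ∈
        nhds z := by
      rw [← hp]
      exact (hW'.fromSpec.isOpenEmbedding.isOpenMap _
        (PrimeSpectrum.basicOpen s).isOpen).mem_nhds ⟨p, hs, rfl⟩
    have h2 := hopen _ h1
    rw [hcomp p, hp]
    have hset : PrimeSpectrum.comap ψ.hom '' (PrimeSpectrum.basicOpen s : Set (PrimeSpectrum Γ(Z, W))) =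
        g.base '' (hW'.fromSpec.base '' (PrimeSpectrum.basicOpen s : Set (PrimeSpectrum Γ(Z, W)))) := by
      ext t
      simp only [Set.mem_image]
      constructor
      · rintro ⟨a, ha, rfl⟩
        exact ⟨_, ⟨a, ha, rfl⟩, (hcomp a).symm⟩
      · rintro ⟨_, ⟨a, ha, rfl⟩, rfl⟩
        exact ⟨a, ha, hcomp a⟩
    rw [hset]
    exact h2)
  refine ⟨hW'.fromSpec.base q, ?_, ?_⟩
  · rw [← hp]
    exact ((PrimeSpectrum.le_iff_specializes q p).mp hq).map hW'.fromSpec.continuous
  · rw [← hcomp q]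
    exact PrimeSpectrum.ext hq0

end Groth.Agent.H17.Val
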