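import Groth.Agent.H17.Val.ValSch
import Groth.Agent.H17.Chev.FlatLC4
import Groth.Agent.H17.Chev.EquidimStar
import Groth.Agent.H17.Chev.RedSubChev
import Groth.Agent.H17.Chev.IrrForm

set_option autoImplicit false
set_option linter.style.haveILetI false
universe u
open CategoryTheory AlgebraicGeometry Limits

namespace Groth.Agent.H17.Val

open Groth.Agent.H17.Chev

theorem dim_fiber_congr {X Y : Scheme.{u}} (f : X ⟶ Y) {y y' : Y} (h : y = y') :
    topologicalKrullDim ↥(f.fiber y) = topologicalKrullDim ↥(f.fiber y') := by
  subst h; rfl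

/-- a dominant morphism from an irreducible scheme maps the generic point to the generic point -/
theorem map_genericPoint_of_isDominant {X Y : Scheme.{u}} [IrreducibleSpace X]
    [IrreducibleSpace Y] (f : X ⟶ Y) [IsDominant f] :
    f.base (genericPoint X) = genericPoint Y := by
  have h1 : IsGenericPoint (f.base (genericPoint X)) (closure (f.base '' Set.univ)) :=
    (genericPoint_spec X).image f.continuous
  rw [Set.image_univ, f.denseRange.closure_range] at h1
  exact ((genericPoint_spec Y).eq h1).symm

/-- the closure of a point in its fibre has dimension at most that of the fibre of the generic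
point, over a valuation ring -/
theorem dim_closure_asFiber_le_of_specializes {X Y : Scheme.{u}} [IsIntegral Y] (f : X ⟶ Y)
    [LocallyOfFiniteType f]
    (x ξ : X) (h : ξ ⤳ x) (hξ : f.base ξ = genericPoint Y)
    (hV : ∀ a b : Y.presheaf.stalk (f.base x), a ∣ b ∨ b ∣ a) :
    topologicalKrullDim ↥(closure ({f.asFiber x} : Set ↥(f.fiber (f.base x)))) ≤
      topologicalKrullDim ↥(closure ({f.asFiber ξ} : Set ↥(f.fiber (f.base ξ)))) := by
  rw [dim_closure_asFiber_eq_trdeg, dim_closure_asFiber_eq_trdeg]
  have key := resTrdeg_le_of_specializes f x ξ h hξ hV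
  obtain ⟨n, hn⟩ := Groth.Agent.H48.DimIneqSch2.exists_trdeg_eq_nat f x
  obtain ⟨m, hm⟩ := Groth.Agent.H48.DimIneqSch2.exists_trdeg_eq_nat f ξ
  have hn' : Dual3.resTrdeg f x = n := hn
  have hm' : Dual3.resTrdeg f ξ = m := hm
  rw [hn', hm'] at key
  have hnm : n ≤ m := by exact_mod_cast key
  have e1 : @Algebra.trdeg (Y.residueField (f.base x)) (X.residueField x) _ _
      (f.residueFieldMap x).hom.toAlgebra = n := hn
  have e2 : @Algebra.trdeg (Y.residueField (f.base ξ)) (X.residueField ξ) _ _
      (f.residueFieldMap ξ).hom.toAlgebra = m := hm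
  rw [e1, e2, Cardinal.toNat_natCast, Cardinal.toNat_natCast]
  exact_mod_cast hnm

/-- **Fibre dimension over a valuation ring**: at a maximal point of a fibre over a point with
valuation local ring, the local fibre dimension equals the dimension of the generic fibre. -/
theorem fibreDimAt_eq_dim_generic_fiber {X Y : Scheme.{u}} [IsIntegral Y] [IrreducibleSpace X]
    (f : X ⟶ Y) [LocallyOfFiniteType f] [IsDominant f] (z : X) (hmax : IsMax (f.asFiber z))
    (hV : ∀ a b : Y.presheaf.stalk (f.base z), a ∣ b ∨ b ∣ a) :
    FlatMor.fibreDimAt f z = topologicalKrullDim ↥(f.fiber (genericPoint Y)) := by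
  have hξ : f.base (genericPoint X) = genericPoint Y := map_genericPoint_of_isDominant f
  have hsp : genericPoint X ⤳ z := (genericPoint_spec X).specializes trivial
  apply le_antisymm
  · rw [← dim_closure_asFiber_eq_fibreDimAt_of_isMax_asFiber f z hmax]
    refine (dim_closure_asFiber_le_of_specializes f z (genericPoint X) hsp hξ hV).trans ?_
    rw [← dim_fiber_congr f hξ]
    exact topologicalKrullDim_subspace_le _ _
  · have h1 := dim_generic_le_localDim f Set.univ isClosed_univ (genericPoint X)
      (genericPoint_spec X) z trivial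
    rw [localDim_univ_inter_eq_fibreDimAt] at h1
    refine le_trans (le_of_eq ?_) h1
    rw [← dim_fiber_congr f hξ, dim_fiber_eq, Set.univ_inter]

end Groth.Agent.H17.Val
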