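import Mathlib

set_option autoImplicit false
set_option linter.style.haveILetI false
universe u
open CategoryTheory AlgebraicGeometry

namespace Groth.Agent.H17.Val

/-- total divisibility passes to localizations -/
theorem dvd_total_of_isLocalization {A M : Type*} [CommRing A] [CommRing M] [Algebra A M]
    (S : Submonoid A) [IsLocalization S M] (hA : ∀ a b : A, a ∣ b ∨ b ∣ a) :
    ∀ x y : M, x ∣ y ∨ y ∣ x := by
  have key : ∀ (a b : A) (s t : S), a ∣ b →
      IsLocalization.mk' M a s ∣ IsLocalization.mk' M b t := by
    rintro a b s t ⟨c, rfl⟩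
    have hs : IsUnit (algebraMap A M s) := IsLocalization.map_units M s
    have ht : IsUnit (algebraMap A M t) := IsLocalization.map_units M t
    rw [← ht.dvd_mul_right, IsLocalization.mk'_spec, map_mul, ← IsLocalization.mk'_spec M a s,
      mul_assoc]
    exact dvd_mul_right _ _
  intro x y
  obtain ⟨a, s, rfl⟩ := IsLocalization.exists_mk'_eq S x
  obtain ⟨b, t, rfl⟩ := IsLocalization.exists_mk'_eq S y
  rcases hA a b with h | h
  · exact Or.inl (key a b s t h)
  · exact Or.inr (key b a t s h)

/-- total divisibility transfers between two localizations at the same prime -/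
theorem dvd_total_of_isLocalization_atPrime {A M N : Type*} [CommRing A] [CommRing M] [CommRing N]
    [Algebra A M] [Algebra A N] (p : Ideal A) [p.IsPrime] [IsLocalization.AtPrime M p]
    [IsLocalization.AtPrime N p] (hM : ∀ a b : M, a ∣ b ∨ b ∣ a) :
    ∀ x y : N, x ∣ y ∨ y ∣ x := by
  let e : M ≃ₐ[A] N := IsLocalization.algEquiv p.primeCompl M N
  intro x y
  rcases hM (e.symm x) (e.symm y) with h | h
  · left
    have := map_dvd e h
    simpa using this
  · right
    have := map_dvd e h
    simpa using this

/-- stalks of the spectrum of a valuation ring have total divisibility -/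
theorem dvd_total_stalk_of_valuationRing (A : Type u) [CommRing A] [IsDomain A] [ValuationRing A]
    (y : Spec (CommRingCat.of A)) :
    ∀ a b : (Spec (CommRingCat.of A)).presheaf.stalk y, a ∣ b ∨ b ∣ a := by
  let y' : PrimeSpectrum A := y
  letI k : Algebra A ((Spec (CommRingCat.of A)).presheaf.stalk y) :=
    StructureSheaf.stalkAlgebra A y'
  haveI : IsLocalization.AtPrime ((Spec (CommRingCat.of A)).presheaf.stalk y) y'.asIdeal :=
    StructureSheaf.IsLocalization.to_stalk A y'
  exact dvd_total_of_isLocalization y'.asIdeal.primeCompl (fun a b => ValuationRing.dvd_total a b)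

/-- stalks of the spectrum of a Prüfer domain have total divisibility -/
theorem dvd_total_stalk_of_prufer (R : Type u) [CommRing R] [IsDomain R]
    (hR : ∀ (p : Ideal R) [p.IsPrime], ValuationRing (Localization.AtPrime p))
    (y : Spec (CommRingCat.of R)) :
    ∀ a b : (Spec (CommRingCat.of R)).presheaf.stalk y, a ∣ b ∨ b ∣ a := by
  let y' : PrimeSpectrum R := y
  letI k : Algebra R ((Spec (CommRingCat.of R)).presheaf.stalk y) :=
    StructureSheaf.stalkAlgebra R y'
  haveI : IsLocalization.AtPrime ((Spec (CommRingCat.of R)).presheaf.stalk y) y'.asIdeal :=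
    StructureSheaf.IsLocalization.to_stalk R y'
  haveI := hR y'.asIdeal
  exact dvd_total_of_isLocalization_atPrime (M := Localization.AtPrime y'.asIdeal) y'.asIdeal
    (fun a b => ValuationRing.dvd_total a b)

end Groth.Agent.H17.Val
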