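import Groth.Agent.H17.Val.ValMain
import Groth.Agent.H49.FibreDimAtBC
import Groth.Agent.H17.Chev.GenzDim
import Groth.Agent.H17.Chev.RedSub

set_option autoImplicit false
set_option linter.style.haveILetI false
universe u
open CategoryTheory AlgebraicGeometry Limits

namespace Groth.Agent.H17.Val

open Groth.Agent.H17.Chev

/-- **The dimension of a fibre is invariant under base change.** -/
theorem dim_fiber_eq_of_isPullback {X Y X' Y' : Scheme.{u}} (f : X ⟶ Y) [LocallyOfFiniteType f]
    (g : Y' ⟶ Y) (f' : X' ⟶ Y') (g' : X' ⟶ X) (hc : IsPullback g' f' f g) (t' : Y') :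
    topologicalKrullDim ↥(f'.fiber t') = topologicalKrullDim ↥(f.fiber (g.base t')) := by
  rw [topologicalKrullDim_eq_iSup_localDim, topologicalKrullDim_eq_iSup_localDim]
  apply le_antisymm
  · refine iSup_le fun w => ?_
    rw [localDim_fiber_eq_fibreDimAt,
      Groth.Agent.H49.FibreDimAtBC.fibreDimAt_eq_of_isPullback f g f' g' hc]
    have h1 : f.base (g'.base ((f'.fiberι t').base w)) = g.base t' := by
      rw [← Scheme.Hom.comp_apply, hc.w, Scheme.Hom.comp_apply, base_fiberι]
    have h2 := fibreDimAt_le_dim_fiber f (g'.base ((f'.fiberι t').base w))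
    rw [dim_fiber_congr f h1, topologicalKrullDim_eq_iSup_localDim] at h2
    exact h2
  · refine iSup_le fun w => ?_
    rw [localDim_fiber_eq_fibreDimAt]
    have h1 := base_fiberι f (g.base t') w
    obtain ⟨x', hx'1, hx'2⟩ : ∃ x' : X', g'.base x' = (f.fiberι (g.base t')).base w ∧
        f'.base x' = t' := by
      obtain ⟨z, hz1, hz2⟩ := Scheme.Pullback.exists_preimage_pullback (f := f) (g := g)
        ((f.fiberι (g.base t')).base w) t' h1
      refine ⟨hc.isoPullback.inv.base z, ?_, ?_⟩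
      · rw [← Scheme.Hom.comp_apply, hc.isoPullback_inv_fst]; exact hz1
      · rw [← Scheme.Hom.comp_apply, hc.isoPullback_inv_snd]; exact hz2
    rw [← hx'1, ← Groth.Agent.H49.FibreDimAtBC.fibreDimAt_eq_of_isPullback f g f' g' hc]
    have h2 := fibreDimAt_le_dim_fiber f' x'
    rw [dim_fiber_congr f' hx'2, topologicalKrullDim_eq_iSup_localDim] at h2
    exact h2

end Groth.Agent.H17.Val

namespace Groth.Agent.H17.Val

open Groth.Agent.H17.Chev

theorem exists_of_isPullback {P X Y S : Scheme.{u}} {fst : P ⟶ X} {snd : P ⟶ Y} {f : X ⟶ S}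
    {g : Y ⟶ S} (h : IsPullback fst snd f g) (x : X) (y : Y) (hxy : f.base x = g.base y) :
    ∃ z : P, fst.base z = x ∧ snd.base z = y := by
  obtain ⟨z, hz1, hz2⟩ := Scheme.Pullback.exists_preimage_pullback (f := f) (g := g) x y hxy
  refine ⟨h.isoPullback.inv.base z, ?_, ?_⟩
  · rw [← Scheme.Hom.comp_apply, h.isoPullback_inv_fst]; exact hz1
  · rw [← Scheme.Hom.comp_apply, h.isoPullback_inv_snd]; exact hz2

/-- the fibre of `i ≫ f` for an immersion `i` is the part of the fibre of `f` in the range -/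
theorem dim_fiber_comp_eq {X₁ X Y : Scheme.{u}} (i : X₁ ⟶ X) [IsPreimmersion i] (f : X ⟶ Y)
    (y : Y) :
    topologicalKrullDim ↥((i ≫ f).fiber y) =
      topologicalKrullDim ↥(Set.range i.base ∩ f.base ⁻¹' {y}) := by
  have hsq : (i ≫ f) ≫ 𝟙 Y = i ≫ f := Category.comp_id _
  exact topologicalKrullDim_eq_of_isEmbedding _ (isEmbedding_fiberι_comp i (i ≫ f) y) _
    (range_fiberι_comp f i (𝟙 Y) (i ≫ f) hsq Function.injective_id y)

/-- **Fibre dimension of a closed subset is invariant under base change.** -/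
theorem dim_fibre_inter_closed_eq_of_isPullback {X Y X' Y' : Scheme.{u}} (f : X ⟶ Y)
    [LocallyOfFiniteType f] (g : Y' ⟶ Y) (f' : X' ⟶ Y') (g' : X' ⟶ X)
    (hc : IsPullback g' f' f g) (t' : Y') (C : Set X) (hC : IsClosed C) :
    topologicalKrullDim ↥(g'.base ⁻¹' C ∩ f'.base ⁻¹' {t'}) =
      topologicalKrullDim ↥(C ∩ f.base ⁻¹' {g.base t'}) := by
  obtain ⟨X₁, i, hi, hr⟩ := exists_closedImmersion_range X C hC
  let f₁ : X₁ ⟶ Y := i ≫ f
  let q : pullback f₁ g ⟶ X₁ := pullback.fst f₁ g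
  let f₁' : pullback f₁ g ⟶ Y' := pullback.snd f₁ g
  let j : pullback f₁ g ⟶ X' := hc.lift (q ≫ i) f₁' (by
    rw [Category.assoc]; exact pullback.condition)
  have hj1 : j ≫ g' = q ≫ i := hc.lift_fst _ _ _
  have hj2 : j ≫ f' = f₁' := hc.lift_snd _ _ _
  have hbig : IsPullback (j ≫ f') q g (i ≫ f) := by
    rw [hj2]; exact (IsPullback.of_hasPullback f₁ g).flip
  have hleft : IsPullback j q g' i := IsPullback.of_right hbig hj1 hc.flip
  haveI : IsClosedImmersion j :=
    MorphismProperty.of_isPullback (P := @IsClosedImmersion) hleft.flip hi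
  have hrange : Set.range j.base = g'.base ⁻¹' C := by
    ext x'
    constructor
    · rintro ⟨w, rfl⟩
      change g'.base (j.base w) ∈ C
      rw [← Scheme.Hom.comp_apply, hj1, Scheme.Hom.comp_apply, ← hr]
      exact ⟨_, rfl⟩
    · intro hx'
      have hx'' : g'.base x' ∈ Set.range i.base := by rw [hr]; exact hx'
      obtain ⟨a, ha⟩ := hx''
      obtain ⟨z, hz1, -⟩ := exists_of_isPullback hleft x' a ha.symm
      exact ⟨z, hz1⟩
  have e1 := dim_fiber_comp_eq j f' t'
  rw [hj2, hrange] at e1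
  have e2 := dim_fiber_comp_eq i f (g.base t')
  rw [hr] at e2
  rw [← e1, ← e2]
  exact dim_fiber_eq_of_isPullback f₁ g f₁' q (IsPullback.of_hasPullback f₁ g) t'

end Groth.Agent.H17.Val
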