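import Groth.Agent.H17.Val.UOComp
import Groth.Agent.H17.Chev.RedSubChev
import Groth.Agent.H17.Chev.Equidim5

set_option autoImplicit false
set_option linter.style.haveILetI false
universe u
open CategoryTheory AlgebraicGeometry Limits Topology TopologicalSpace

namespace Groth.Agent.H17.Val

open Groth.Agent.H17.Chev

/-- EGA IV 14.3.3.1 b') ⇒ b). -/
theorem exists_irreducibleComponent_dominating_of_le_dim {X Y : Scheme.{u}} (f : X ⟶ Y)
    [LocallyOfFiniteType f] (x : X)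
    (hb' : ∀ U : X.Opens, x ∈ U → ∀ y' : Y, y' ⤳ f.base x →
        FlatMor.fibreDimAt f x ≤ topologicalKrullDim ↥((U : Set X) ∩ f.base ⁻¹' {y'}))
    (Y₀ : Set Y) (hY₀ : Y₀ ∈ irreducibleComponents (Y : Type u)) (hy : f.base x ∈ Y₀) :
    ∃ Z ∈ irreducibleComponents (X : Type u), ∃ hx : x ∈ Z, closure (f.base '' Z) = Y₀ ∧
      ∀ η : Y, closure ({η} : Set Y) = Y₀ →
        FlatMor.fibreDimAt f x = FlatMor.localDim ↥(Z ∩ f.base ⁻¹' {f.base x}) ⟨x, ⟨hx, rfl⟩⟩ ∧
        FlatMor.localDim ↥(Z ∩ f.base ⁻¹' {f.base x}) ⟨x, ⟨hx, rfl⟩⟩ =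
          topologicalKrullDim ↥(Z ∩ f.base ⁻¹' {η}) := by
  have hY₀c : IsClosed Y₀ := isClosed_of_mem_irreducibleComponents _ hY₀
  have hη₀ := hY₀.1.isGenericPoint_genericPoint hY₀c
  set η₀ := hY₀.1.genericPoint with hη₀def
  have hη₀x : η₀ ⤳ f.base x := hη₀.specializes hy
  obtain ⟨n, hn⟩ := exists_nat_eq_fibreDimAt f x
  obtain ⟨ξ, hξη, hξx, hξmax, hξn⟩ := exists_maximal_fibre_point_specializes_of_le_dim f x η₀ n
    (fun U hU => hn ▸ hb' U hU η₀ hη₀x)
  have hmaxξ : IsMax ξ := by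
    intro ξ' hle
    have h1 : ξ' ⤳ ξ := hle
    have h2 : f.base ξ' ⤳ η₀ := by
      rw [← hξη]; exact h1.map f.continuous
    have h3 : Y₀ ⊆ closure {f.base ξ'} := by
      rw [← hη₀.def]
      exact h2.closure_subset
    have h4 : closure {f.base ξ'} ⊆ Y₀ := hY₀.2 isIrreducible_singleton.closure h3
    have h5 : η₀ ⤳ f.base ξ' := hη₀.specializes (h4 (subset_closure rfl))
    have h6 : f.base ξ' = η₀ := (h2.antisymm h5).eq
    have h7 : ξ' = ξ := hξmax ξ' (h6.trans hξη.symm) h1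
    rw [h7]
  set Z : Set X := closure {ξ} with hZ
  have hZcomp : Z ∈ irreducibleComponents (X : Type u) :=
    closure_mem_irreducibleComponents_of_isMax X ξ hmaxξ
  have hx : x ∈ Z := hξx.mem_closure
  have hξZ : IsGenericPoint ξ Z := isGenericPoint_closure
  refine ⟨Z, hZcomp, hx, ?_, ?_⟩
  · rw [closure_image_eq_of_isGenericPoint f.base f.continuous Z ξ hξZ, hξη, hη₀.def]
  · intro η hη
    have hηeq : η = η₀ := by
      have h1 : IsGenericPoint η Y₀ := hη
      exact h1.eq hη₀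
    subst hηeq
    have hA := dim_closure_inter_generic_eq f ξ hmaxξ
    have hB := dim_generic_le_localDim f Z isClosed_closure ξ hξZ x hx
    have hC : FlatMor.localDim ↥(Z ∩ f.base ⁻¹' {f.base x}) ⟨x, ⟨hx, rfl⟩⟩ ≤
        FlatMor.fibreDimAt f x := by
      rw [fibreDimAt_eq]
      exact localDim_subtype_mono (S := Z ∩ f.base ⁻¹' {f.base x}) (S' := f.base ⁻¹' {f.base x})
        Set.inter_subset_right x ⟨hx, rfl⟩
    rw [hξη] at hA hB
    have hD : FlatMor.fibreDimAt f x ≤ topologicalKrullDim ↥(Z ∩ f.base ⁻¹' {η₀}) := by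
      rw [hA, hn]; exact hξn
    exact ⟨le_antisymm (hD.trans hB) hC, le_antisymm (hC.trans hD) hB⟩

end Groth.Agent.H17.Val
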