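import Groth.Agent.H17.Val.UOVal
import Groth.Agent.H17.Val.ValSpec

set_option autoImplicit false
set_option linter.style.haveILetI false
universe u
open CategoryTheory AlgebraicGeometry Limits Topology TopologicalSpace

namespace Groth.Agent.H17.Val

open Groth.Agent.H17.Chev

/-- EGA IV 14.3.3.1 a) ⇒ b'): at a maximal point of the fibre where `f` is universally open, the
local fibre dimension is at most the dimension of `U ∩ X_{y'}` for every open neighbourhood `U` and
every generization `y'` of `f x`. -/
theorem fibreDimAt_le_dim_open_inter_fibre_of_isUnivOpenAt {X Y : Scheme.{u}} (f : X ⟶ Y)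
    [LocallyOfFiniteType f] (x : X)
    (hmax : ∀ x' : X, f.base x' = f.base x → x ∈ closure {x'} → x' = x)
    (ha : EGA43.IsUnivOpenAt f x) (U : X.Opens) (hxU : x ∈ U) (y' : Y) (hy' : y' ⤳ f.base x) :
    FlatMor.fibreDimAt f x ≤ topologicalKrullDim ↥((U : Set X) ∩ f.base ⁻¹' {y'}) := by
  obtain ⟨V, hV1, hV2, hV3, φ, hφc, hφη⟩ := exists_valuationRing_hom y' (f.base x) hy'
  let p := pullback.fst f φ
  let fV := pullback.snd f φ
  have hc : IsPullback p fV f φ := IsPullback.of_hasPullback f φ
  have hw : ∀ t, f.base (p.base t) = φ.base (fV.base t) := by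
    intro t
    have := congrArg (fun h => h.base t) hc.w
    simpa using this
  obtain ⟨x₀, hx₀1, hx₀2⟩ := Scheme.Pullback.exists_preimage_pullback (f := f) (g := φ) x
    (IsLocalRing.closedPoint V) hφc.symm
  obtain ⟨xV, hxV1, hxV2, hxVmax, -, -⟩ := exists_maximal_fibre_point_fibreDimAt_eq fV x₀
  have hpx : p.base xV = x := by
    apply hmax
    · rw [hw, hxV1]
      change φ.base (fV.base x₀) = _
      rw [hx₀2, hφc]
    · have h1 : p.base xV ⤳ p.base x₀ := hxV2.map p.continuous
      have hx₀1' : p.base x₀ = x := hx₀1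
      rw [hx₀1'] at h1
      exact h1.mem_closure
  have hopen : EGA43.IsOpenAt fV.base xV := ha _ φ xV hpx
  have key := fibreDimAt_le_dim_open_inter_generic_fibre fV xV
    (fun z' h1 h2 => by rw [hxVmax z' h1 h2]) hopen (p ⁻¹ᵁ U) (by
      change p.base xV ∈ U
      rw [hpx]; exact hxU)
  rw [Groth.Agent.H49.FibreDimAtBC.fibreDimAt_eq_of_isPullback f φ fV p hc xV, hpx] at key
  have e := dim_fibre_inter_open_eq_of_isPullback f φ fV p hc
    (genericPoint (Spec (CommRingCat.of V))) U
  rw [hφη] at e
  rw [← e]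
  exact key

end Groth.Agent.H17.Val
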