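import Groth.Agent.H17.Val.BCDim

set_option autoImplicit false
set_option linter.style.haveILetI false
universe u
open CategoryTheory AlgebraicGeometry Limits

namespace Groth.Agent.H17.Val

open Groth.Agent.H17.Chev

/-- **Fibre dimension of the range of a preimmersion is invariant under base change.** -/
theorem dim_fibre_inter_range_eq_of_isPullback {X Y X' Y' X₁ : Scheme.{u}} (f : X ⟶ Y)
    (g : Y' ⟶ Y) (f' : X' ⟶ Y') (g' : X' ⟶ X)
    (hc : IsPullback g' f' f g) (t' : Y') (i : X₁ ⟶ X) [IsPreimmersion i]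
    [LocallyOfFiniteType (i ≫ f)] :
    topologicalKrullDim ↥(g'.base ⁻¹' (Set.range i.base) ∩ f'.base ⁻¹' {t'}) =
      topologicalKrullDim ↥(Set.range i.base ∩ f.base ⁻¹' {g.base t'}) := by
  let f₁ : X₁ ⟶ Y := i ≫ f
  let q : pullback f₁ g ⟶ X₁ := pullback.fst f₁ g
  let f₁' : pullback f₁ g ⟶ Y' := pullback.snd f₁ g
  let j : pullback f₁ g ⟶ X' := hc.lift (q ≫ i) f₁' (by
    rw [Category.assoc]; exact pullback.condition)
  have hj1 : j ≫ g' = q ≫ i := hc.lift_fst _ _ _
  have hj2 : j ≫ f' = f₁' := hc.lift_snd _ _ _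
  have hbig : IsPullback (j ≫ f') q g (i ≫ f) := by
    rw [hj2]; exact (IsPullback.of_hasPullback f₁ g).flip
  have hleft : IsPullback j q g' i := IsPullback.of_right hbig hj1 hc.flip
  haveI : IsPreimmersion j :=
    MorphismProperty.of_isPullback (P := @IsPreimmersion) hleft.flip inferInstance
  have hrange : Set.range j.base = g'.base ⁻¹' (Set.range i.base) := by
    ext x'
    constructor
    · rintro ⟨w, rfl⟩
      change g'.base (j.base w) ∈ Set.range i.base
      rw [← Scheme.Hom.comp_apply, hj1, Scheme.Hom.comp_apply]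
      exact ⟨_, rfl⟩
    · intro hx'
      obtain ⟨a, ha⟩ := hx'
      obtain ⟨z, hz1, -⟩ := exists_of_isPullback hleft x' a ha.symm
      exact ⟨z, hz1⟩
  have e1 := dim_fiber_comp_eq j f' t'
  rw [hj2, hrange] at e1
  have e2 := dim_fiber_comp_eq i f (g.base t')
  rw [← e1, ← e2]
  exact dim_fiber_eq_of_isPullback f₁ g f₁' q (IsPullback.of_hasPullback f₁ g) t'

/-- open-subset version -/
theorem dim_fibre_inter_open_eq_of_isPullback {X Y X' Y' : Scheme.{u}} (f : X ⟶ Y)
    [LocallyOfFiniteType f]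
    (g : Y' ⟶ Y) (f' : X' ⟶ Y') (g' : X' ⟶ X)
    (hc : IsPullback g' f' f g) (t' : Y') (U : X.Opens) :
    topologicalKrullDim ↥(g'.base ⁻¹' (U : Set X) ∩ f'.base ⁻¹' {t'}) =
      topologicalKrullDim ↥((U : Set X) ∩ f.base ⁻¹' {g.base t'}) := by
  have := dim_fibre_inter_range_eq_of_isPullback f g f' g' hc t' U.ι
  rw [Scheme.Opens.range_ι] at this
  exact this

end Groth.Agent.H17.Val
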