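import Groth.Agent.H17.Val.FibOpen
import Groth.Agent.H17.Val.BCDim

set_option autoImplicit false
set_option linter.style.haveILetI false
universe u
open CategoryTheory AlgebraicGeometry Limits Topology TopologicalSpace

namespace Groth.Agent.H17.Val

open Groth.Agent.H17.Chev

/-- fibrewise closure commutes with base change -/
theorem fibre_inter_closure_preimage_eq_of_isPullback {X Y X' Y' : Scheme.{u}} (f : X ⟶ Y)
    (g : Y' ⟶ Y) (f' : X' ⟶ Y') (g' : X' ⟶ X) (hc : IsPullback g' f' f g) (t' : Y')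
    (T : Set X) :
    f'.base ⁻¹' {t'} ∩ closure (g'.base ⁻¹' T ∩ f'.base ⁻¹' {t'}) =
      g'.base ⁻¹' (closure (T ∩ f.base ⁻¹' {g.base t'})) ∩ f'.base ⁻¹' {t'} := by
  have hw : ∀ x : X', f.base (g'.base x) = g.base (f'.base x) := by
    intro x
    have := congrArg (fun h => h.base x) hc.w
    simpa using this
  apply Set.Subset.antisymm
  · rintro x ⟨hx1, hx2⟩
    refine ⟨?_, hx1⟩
    have hcl : IsClosed (g'.base ⁻¹' (closure (T ∩ f.base ⁻¹' {g.base t'}))) :=
      isClosed_closure.preimage g'.continuous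
    refine closure_minimal ?_ hcl hx2
    rintro u ⟨hu1, hu2⟩
    apply subset_closure
    refine ⟨hu1, ?_⟩
    change f.base (g'.base u) = g.base t'
    rw [hw u]
    exact congrArg g.base hu2
  · rintro x ⟨hx1, hx2⟩
    refine ⟨hx2, ?_⟩
    rw [mem_closure_iff]
    intro U hU hxU
    obtain ⟨O, hOo, hOe⟩ := exists_isOpen_image_inter_fibre_of_isPullback f g f' g' hc t' U hU
    have hgx : g'.base x ∈ O := by
      have : g'.base x ∈ g'.base '' (U ∩ f'.base ⁻¹' {t'}) := ⟨x, ⟨hxU, hx2⟩, rfl⟩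
      rw [hOe] at this
      exact this.1
    have hx1' : g'.base x ∈ closure (T ∩ f.base ⁻¹' {g.base t'}) := hx1
    rw [mem_closure_iff] at hx1'
    obtain ⟨t, htO, htT, htf⟩ := hx1' O hOo hgx
    have : t ∈ g'.base '' (U ∩ f'.base ⁻¹' {t'}) := by
      rw [hOe]; exact ⟨htO, htf⟩
    obtain ⟨u, ⟨huU, huf⟩, rfl⟩ := this
    exact ⟨u, huU, htT, huf⟩

/-- **The fibrewise-closure dimension is invariant under base change.** -/
theorem dim_fibre_closure_eq_of_isPullback {X Y X' Y' : Scheme.{u}} (f : X ⟶ Y)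
    [LocallyOfFiniteType f]
    (g : Y' ⟶ Y) (f' : X' ⟶ Y') (g' : X' ⟶ X) (hc : IsPullback g' f' f g) (t' : Y')
    (T : Set X) :
    topologicalKrullDim ↥(f'.base ⁻¹' {t'} ∩ closure (g'.base ⁻¹' T ∩ f'.base ⁻¹' {t'})) =
      topologicalKrullDim ↥(f.base ⁻¹' {g.base t'} ∩ closure (T ∩ f.base ⁻¹' {g.base t'})) := by
  rw [fibre_inter_closure_preimage_eq_of_isPullback f g f' g' hc t' T,
    dim_fibre_inter_closed_eq_of_isPullback f g f' g' hc t' _ isClosed_closure,
    Set.inter_comm]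

end Groth.Agent.H17.Val
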