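import Mathlib

set_option autoImplicit false
set_option linter.style.haveILetI false
universe u
open CategoryTheory AlgebraicGeometry Limits Topology TopologicalSpace

namespace Groth.Agent.H17.Val

/-- In a cartesian square the induced maps on (set-theoretic) fibres are open. -/
theorem exists_isOpen_image_inter_fibre_of_isPullback {X Y X' Y' : Scheme.{u}} (f : X ⟶ Y)
    (g : Y' ⟶ Y) (f' : X' ⟶ Y') (g' : X' ⟶ X) (hc : IsPullback g' f' f g) (t' : Y')
    (U : Set X') (hU : IsOpen U) :
    ∃ O : Set X, IsOpen O ∧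
      g'.base '' (U ∩ f'.base ⁻¹' {t'}) = O ∩ f.base ⁻¹' {g.base t'} := by
  let φ : f'.fiber t' ⟶ f.fiber (g.base t') :=
    pullback.map _ _ _ _ g' (Spec.map (g.residueFieldMap t')) g hc.w.symm (by simp)
  have hφ : IsPullback φ (f'.fiberToSpecResidueField t') (f.fiberToSpecResidueField (g.base t'))
      (Spec.map (g.residueFieldMap t')) := isPullback_fiberToSpecResidueField_of_isPullback hc t'
  have hφι : φ ≫ f.fiberι (g.base t') = f'.fiberι t' ≫ g' := pullback.lift_fst _ _ _
  haveI : UniversallyOpen (Spec.map (g.residueFieldMap t')) := inferInstance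
  haveI : UniversallyOpen φ := MorphismProperty.of_isPullback (P := @UniversallyOpen) hφ.flip
    inferInstance
  have hφo : IsOpenMap φ.base := φ.isOpenMap
  have hU' : IsOpen ((f'.fiberι t').base ⁻¹' U) := hU.preimage (f'.fiberι t').continuous
  have hO := hφo _ hU'
  rw [(f.fiberι (g.base t')).isEmbedding.isInducing.isOpen_iff] at hO
  obtain ⟨O, hOo, hOe⟩ := hO
  refine ⟨O, hOo, ?_⟩
  have h1 : U ∩ f'.base ⁻¹' {t'} = (f'.fiberι t').base '' ((f'.fiberι t').base ⁻¹' U) := by
    rw [Set.image_preimage_eq_inter_range, Scheme.Hom.range_fiberι]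
  have h2 : O ∩ f.base ⁻¹' {g.base t'} =
      (f.fiberι (g.base t')).base '' ((f.fiberι (g.base t')).base ⁻¹' O) := by
    rw [Set.image_preimage_eq_inter_range, Scheme.Hom.range_fiberι]
  rw [h1, h2, hOe, ← Set.image_comp, ← Set.image_comp]
  have h3 : (g'.base ∘ (f'.fiberι t').base : _ → _) = ((f.fiberι (g.base t')).base ∘ φ.base) := by
    have := congrArg (fun h => (h.base : _ → _)) hφι
    simpa using this.symm
  rw [h3]

end Groth.Agent.H17.Val
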