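import Groth.Agent.H17.Val.BCDim

set_option autoImplicit false
set_option linter.style.haveILetI false
universe u
open CategoryTheory AlgebraicGeometry Limits Topology TopologicalSpace

namespace Groth.Agent.H17.Val

open Groth.Agent.H17.Chev

/-- the set-theoretic fibre of a quasi-compact morphism locally of finite type is Noetherian -/
theorem noetherianSpace_preimage_singleton {X Y : Scheme.{u}} (f : X ⟶ Y) [LocallyOfFiniteType f]
    [QuasiCompact f] (y : Y) : NoetherianSpace ↥(f.base ⁻¹' {y}) := by
  let φ := f.fiberToSpecResidueField y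
  haveI : LocallyOfFiniteType φ :=
    inferInstanceAs (LocallyOfFiniteType (pullback.snd f (Y.fromSpecResidueField _)))
  haveI : IsLocallyNoetherian (f.fiber y) := LocallyOfFiniteType.isLocallyNoetherian φ
  haveI : CompactSpace ↥(f.fiber y) := inferInstance
  haveI : IsNoetherian (f.fiber y) := ⟨⟩
  haveI : NoetherianSpace ↥(f.fiber y) := inferInstance
  exact (noetherianSpace_iff_of_homeomorph (f.fiberHomeo y)).mp inferInstance

/-- A point in the closure of a subset `A` of a fibre is a specialization of a point of that fibre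
lying in the closure of `A`. -/
theorem exists_specializes_of_mem_closure_of_subset_fibre {X Y : Scheme.{u}} (f : X ⟶ Y)
    [LocallyOfFiniteType f] [QuasiCompact f] (η : Y) (A : Set X) (hA : A ⊆ f.base ⁻¹' {η})
    (z : X) (hz : z ∈ closure A) :
    ∃ ξ : X, ξ ∈ closure A ∧ f.base ξ = η ∧ ξ ⤳ z := by
  set F' : Set X := closure A ∩ f.base ⁻¹' {η} with hF'
  have hAF : A ⊆ F' := fun a ha => ⟨subset_closure ha, hA ha⟩
  have hcl : z ∈ closure F' := closure_mono hAF hz
  haveI := noetherianSpace_preimage_singleton f η
  have hF'N : NoetherianSpace ↥F' :=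
    (IsEmbedding.inclusion (show F' ⊆ f.base ⁻¹' {η} from
      Set.inter_subset_right)).isInducing.noetherianSpace
  have hfin := NoetherianSpace.finite_irreducibleComponents (α := ↥F')
  have hcover : F' = ⋃ C ∈ irreducibleComponents ↥F', (Subtype.val '' C : Set X) := by
    ext t
    simp only [Set.mem_iUnion, Set.mem_image, Subtype.exists, exists_and_right, exists_eq_right,
      exists_prop]
    constructor
    · intro ht
      have : (⟨t, ht⟩ : ↥F') ∈ ⋃₀ irreducibleComponents ↥F' := by
        rw [sUnion_irreducibleComponents]; trivial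
      obtain ⟨C, hC, htC⟩ := this
      exact ⟨C, hC, ht, htC⟩
    · rintro ⟨C, -, ht, -⟩
      exact ht
  rw [hcover, hfin.closure_biUnion] at hcl
  simp only [Set.mem_iUnion, exists_prop] at hcl
  obtain ⟨C, hC, hζC⟩ := hcl
  have hCirr : IsIrreducible (Subtype.val '' C : Set X) :=
    hC.1.image _ continuous_subtype_val.continuousOn
  have hcirr : IsIrreducible (closure (Subtype.val '' C : Set X)) := hCirr.closure
  have hx' := hcirr.isGenericPoint_genericPoint isClosed_closure
  set x' := hcirr.genericPoint
  have hCA : (Subtype.val '' C : Set X) ⊆ closure A := by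
    rintro _ ⟨t, -, rfl⟩
    exact t.2.1
  refine ⟨x', ?_, ?_, hx'.specializes hζC⟩
  · exact (closure_minimal hCA isClosed_closure) hx'.mem
  · obtain ⟨c, hc⟩ := hC.1.nonempty
    have hfc : f.base c.1 = η := c.2.2
    have h1 : f.base x' ⤳ η := by
      rw [← hfc]
      exact (hx'.specializes (subset_closure ⟨c, hc, rfl⟩)).map f.continuous
    have h2 : η ⤳ f.base x' := by
      rw [specializes_iff_mem_closure]
      have h3 : f.base x' ∈ f.base '' closure (Subtype.val '' C : Set X) := ⟨x', hx'.mem, rfl⟩
      have h4 := image_closure_subset_closure_image f.continuous h3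
      refine closure_mono ?_ h4
      rintro _ ⟨_, ⟨t, -, rfl⟩, rfl⟩
      exact t.2.2
    exact (h1.antisymm h2).eq

end Groth.Agent.H17.Val
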