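import Groth.Agent.H17.Val.GenLift

set_option autoImplicit false
set_option linter.style.haveILetI false
universe u
open CategoryTheory AlgebraicGeometry Limits Topology TopologicalSpace

namespace Groth.Agent.H17.Val

open Groth.Agent.H17.Chev

/-- Version without quasi-compactness: a point in the closure of a subset `A` of a fibre is a
specialization of a point of that fibre lying in the closure of `A`. -/
theorem exists_specializes_of_mem_closure_of_subset_fibre' {X Y : Scheme.{u}} (f : X ⟶ Y)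
    [LocallyOfFiniteType f] (η : Y) (A : Set X) (hA : A ⊆ f.base ⁻¹' {η})
    (z : X) (hz : z ∈ closure A) :
    ∃ ξ : X, ξ ∈ closure A ∧ f.base ξ = η ∧ ξ ⤳ z := by
  have hηz : η ⤳ f.base z := by
    rw [specializes_iff_mem_closure]
    have h1 : f.base z ∈ f.base '' closure A := ⟨z, hz, rfl⟩
    have h2 := image_closure_subset_closure_image f.continuous h1
    refine closure_mono ?_ h2
    rintro _ ⟨a, ha, rfl⟩
    exact hA ha
  obtain ⟨_, ⟨(Y₁ : Y.Opens), hY₁, rfl⟩, hzY₁, -⟩ :=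
    Y.isBasis_affineOpens.exists_subset_of_mem_open (Set.mem_univ (f.base z)) isOpen_univ
  have hηY₁ : η ∈ Y₁ := hηz.mem_open Y₁.isOpen hzY₁
  obtain ⟨_, ⟨(U₀ : X.Opens), hU₀, rfl⟩, hzU₀, hle⟩ :=
    X.isBasis_affineOpens.exists_subset_of_mem_open (show z ∈ ((f ⁻¹ᵁ Y₁ : X.Opens) : Set X) from hzY₁)
      (f ⁻¹ᵁ Y₁).isOpen
  have hle' : U₀ ≤ f ⁻¹ᵁ Y₁ := hle
  let f₁ := f.resLE Y₁ U₀ hle'
  have hf₁ : f₁ ≫ Y₁.ι = U₀.ι ≫ f := Scheme.Hom.resLE_comp_ι f hle'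
  haveI : IsAffine U₀.toScheme := hU₀
  haveI : IsAffine Y₁.toScheme := hY₁
  haveI : LocallyOfFiniteType f₁ := inferInstance
  haveI : CompactSpace ↥(U₀.toScheme) := inferInstance
  haveI : QuasiSeparatedSpace ↥(Y₁.toScheme) := inferInstance
  haveI : QuasiCompact f₁ := quasiCompact_of_compactSpace f₁
  let η₁ : ↥(Y₁.toScheme) := ⟨η, hηY₁⟩
  let z₁ : ↥(U₀.toScheme) := ⟨z, hzU₀⟩
  have hpt : ∀ a : ↥(U₀.toScheme), Y₁.ι.base (f₁.base a) = f.base (U₀.ι.base a) := by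
    intro a
    have := congrArg (fun h => h.base a) hf₁
    simpa using this
  have hA₁ : U₀.ι.base ⁻¹' A ⊆ f₁.base ⁻¹' {η₁} := by
    intro a ha
    have h1 : f.base (U₀.ι.base a) = η := hA ha
    have h2 : Y₁.ι.base (f₁.base a) = Y₁.ι.base η₁ := by rw [hpt a, h1]; rfl
    exact Y₁.ι.isOpenEmbedding.injective h2
  have hcl : U₀.ι.base ⁻¹' closure A = closure (U₀.ι.base ⁻¹' A) :=
    U₀.ι.isOpenEmbedding.isOpenMap.preimage_closure_eq_closure_preimage U₀.ι.continuous A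
  have hz₁ : z₁ ∈ closure (U₀.ι.base ⁻¹' A) := by
    rw [← hcl]; exact hz
  obtain ⟨ξ₁, hξ₁A, hξ₁η, hξ₁z⟩ :=
    exists_specializes_of_mem_closure_of_subset_fibre f₁ η₁ _ hA₁ z₁ hz₁
  refine ⟨U₀.ι.base ξ₁, ?_, ?_, ?_⟩
  · rw [← hcl] at hξ₁A
    exact hξ₁A
  · rw [← hpt ξ₁, hξ₁η]; rfl
  · exact hξ₁z.map U₀.ι.continuous

end Groth.Agent.H17.Val
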