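import Mathlib

set_option autoImplicit false
set_option linter.style.haveILetI false
universe u
open CategoryTheory AlgebraicGeometry

namespace Groth.Agent.H17.Val

/-- Along an open map to the spectrum of a domain, the generic point lifts to a generization of any
given point. -/
theorem exists_le_comap_eq_bot_of_isOpenMap {V B : Type*} [CommRing V] [IsDomain V] [CommRing B]
    (ψ : V →+* B) (hopen : IsOpenMap (PrimeSpectrum.comap ψ)) (p : PrimeSpectrum B) :
    ∃ q : PrimeSpectrum B, q ≤ p ∧ q.asIdeal.comap ψ = ⊥ := by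
  classical
  let M : Submonoid B := (Submonoid.map ψ (nonZeroDivisors V)) ⊔ p.asIdeal.primeCompl
  have hdisj : Disjoint ((⊥ : Ideal B) : Set B) (M : Set B) := by
    rw [Set.disjoint_left]
    intro b hb hbM
    have hb0 : b = 0 := hb
    subst hb0
    obtain ⟨b1, hb1, s, hs, hprod⟩ := Submonoid.mem_sup.mp hbM
    obtain ⟨a, ha, rfl⟩ := hb1
    have ha0 : a ≠ 0 := nonZeroDivisors.ne_zero ha
    have hs' : s ∉ p.asIdeal := hs
    have hmem : PrimeSpectrum.comap ψ p ∈ PrimeSpectrum.comap ψ '' (PrimeSpectrum.basicOpen s : Set _) :=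
      ⟨p, hs', rfl⟩
    have hO := hopen _ (PrimeSpectrum.basicOpen s).isOpen
    have hbot : (⊥ : PrimeSpectrum V) ⤳ PrimeSpectrum.comap ψ p :=
      (PrimeSpectrum.le_iff_specializes _ _).mp bot_le
    obtain ⟨q', hq's, hq'⟩ := hbot.mem_open hO hmem
    have h0 : ψ a * s ∈ q'.asIdeal := by rw [hprod]; exact zero_mem _
    rcases q'.2.mem_or_mem h0 with h | h
    · have : a ∈ (PrimeSpectrum.comap ψ q').asIdeal := h
      rw [hq'] at this
      exact ha0 this
    · exact hq's h
  obtain ⟨q, hqprime, -, hqM⟩ := Ideal.exists_le_prime_disjoint ⊥ M hdisj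
  refine ⟨⟨q, hqprime⟩, ?_, ?_⟩
  · change q ≤ p.asIdeal
    intro x hx
    by_contra hxp
    exact Set.disjoint_left.mp hqM hx (Submonoid.mem_sup_right (show x ∈ p.asIdeal.primeCompl from hxp))
  · rw [eq_bot_iff]
    intro a ha
    by_contra ha0
    have ha0' : a ≠ 0 := ha0
    have : ψ a ∈ M := Submonoid.mem_sup_left ⟨a, mem_nonZeroDivisors_of_ne_zero ha0', rfl⟩
    exact Set.disjoint_left.mp hqM ha this

end Groth.Agent.H17.Val
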