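import Groth.Agent.H17.Val.OpenGen

set_option autoImplicit false
set_option linter.style.haveILetI false
universe u
open CategoryTheory AlgebraicGeometry

namespace Groth.Agent.H17.Val

/-- Along an open morphism to the spectrum of a domain, every point has a generization lying over
the generic point. -/
theorem exists_specializes_map_eq_bot_of_isOpenMap {V : Type u} [CommRing V] [IsDomain V]
    {Y : Scheme.{u}} (g : Y ⟶ Spec (CommRingCat.of V)) (hopen : IsOpenMap g.base) (y : Y) :
    ∃ y' : Y, y' ⤳ y ∧ g.base y' = (⊥ : PrimeSpectrum V) := by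
  obtain ⟨_, ⟨W, hW, rfl⟩, hyW, -⟩ :=
    Y.isBasis_affineOpens.exists_subset_of_mem_open (Set.mem_univ y) isOpen_univ
  have hW' : IsAffineOpen W := hW
  obtain ⟨p, hp⟩ : ∃ p, hW'.fromSpec.base p = y := by
    have : y ∈ Set.range hW'.fromSpec.base := by rw [hW'.range_fromSpec]; exact hyW
    exact this
  obtain ⟨ψ, hψ⟩ := Spec.map_surjective (hW'.fromSpec ≫ g)
  have hopen' : IsOpenMap (PrimeSpectrum.comap ψ.hom) := by
    have h1 : IsOpenMap (hW'.fromSpec ≫ g).base := by
      rw [Scheme.Hom.comp_base]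
      exact hopen.comp hW'.fromSpec.isOpenEmbedding.isOpenMap
    rw [← hψ] at h1
    exact h1
  obtain ⟨q, hq, hq0⟩ := exists_le_comap_eq_bot_of_isOpenMap ψ.hom hopen' p
  refine ⟨hW'.fromSpec.base q, ?_, ?_⟩
  · rw [← hp]
    exact ((PrimeSpectrum.le_iff_specializes q p).mp hq).map hW'.fromSpec.continuous
  · have h2 : g.base (hW'.fromSpec.base q) = (hW'.fromSpec ≫ g).base q := rfl
    rw [h2, ← hψ]
    exact PrimeSpectrum.ext hq0

end Groth.Agent.H17.Val
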