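import Groth.Agent.H17.Val.GenLift2
import Groth.Agent.H17.Val.BCDim2
import Groth.Agent.H17.Chev.FamCycT
import Groth.Agent.H17.Chev.Equidim8
import Groth.Agent.H17.Chev.Closed

set_option autoImplicit false
set_option linter.style.haveILetI false
universe u
open CategoryTheory AlgebraicGeometry Limits Topology TopologicalSpace

namespace Groth.Agent.H17.Val

open Groth.Agent.H17.Chev

/-- If every open neighbourhood of `x` meets the fibre over `η` in dimension `≥ n`, there is a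
maximal point of that fibre, generizing `x`, with local fibre dimension `≥ n`. -/
theorem exists_maximal_fibre_point_specializes_of_le_dim {X Y : Scheme.{u}} (f : X ⟶ Y)
    [LocallyOfFiniteType f] (x : X) (η : Y) (n : ℕ)
    (hb : ∀ U : X.Opens, x ∈ U →
      (n : WithBot ℕ∞) ≤ topologicalKrullDim ↥((U : Set X) ∩ f.base ⁻¹' {η})) :
    ∃ ξ : X, f.base ξ = η ∧ ξ ⤳ x ∧ (∀ ξ' : X, f.base ξ' = f.base ξ → ξ' ⤳ ξ → ξ' = ξ) ∧
      (n : WithBot ℕ∞) ≤ FlatMor.fibreDimAt f ξ := by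
  set K : Set X := {t : X | (n : WithBot ℕ∞) ≤ FlatMor.fibreDimAt f t} with hK
  have hKc : IsClosed K := isClosed_setOf_le_fibreDimAt f n
  set A : Set X := K ∩ f.base ⁻¹' {η} with hA
  have hxA : x ∈ closure A := by
    rw [mem_closure_iff]
    intro U hU hxU
    let U' : X.Opens := ⟨U, hU⟩
    have h1 := hb U' hxU
    have h2 := dim_fiber_comp_eq U'.ι f η
    rw [Scheme.Opens.range_ι] at h2
    rw [← h2, le_dim_fiber_iff] at h1
    obtain ⟨w, hw1, hw2⟩ := h1
    rw [fibreDimAt_ι_comp f U' w] at hw2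
    exact ⟨w.1, w.2, hw2, hw1⟩
  obtain ⟨ξ₀, hξ₀A, hξ₀η, hξ₀x⟩ :=
    exists_specializes_of_mem_closure_of_subset_fibre' f η A Set.inter_subset_right x hxA
  have hξ₀K : ξ₀ ∈ K := closure_minimal Set.inter_subset_left hKc hξ₀A
  obtain ⟨ξ, hξ1, hξ2, hξmax, -, hξdim⟩ := exists_maximal_fibre_point_fibreDimAt_eq f ξ₀
  refine ⟨ξ, hξ1.trans hξ₀η, hξ2.trans hξ₀x, hξmax, ?_⟩
  rw [hξdim]
  exact hξ₀K

end Groth.Agent.H17.Val
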