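import Groth.Agent.H17.Val.OpenAtGen
import Groth.Agent.H17.Val.BCDim2
import Groth.Agent.H17.Val.DenseOpen
import Groth.Agent.H17.Chev.FlatLC5
import Groth.Agent.H17.Chev.FamCycT

set_option autoImplicit false
set_option linter.style.haveILetI false
universe u
open CategoryTheory AlgebraicGeometry Limits Topology TopologicalSpace

namespace Groth.Agent.H17.Val

open Groth.Agent.H17.Chev

/-- Over a valuation ring: at a maximal point `z` of its fibre at which `g` is open, the local
fibre dimension is at most the dimension of the generic fibre of any open neighbourhood. -/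
theorem fibreDimAt_le_dim_open_inter_generic_fibre {V : Type u} [CommRing V] [IsDomain V]
    [ValuationRing V] {Z : Scheme.{u}} (g : Z ⟶ Spec (CommRingCat.of V)) [LocallyOfFiniteType g]
    (z : Z) (hmax : ∀ z' : Z, g.base z' = g.base z → z' ⤳ z → z ⤳ z')
    (hopen : EGA43.IsOpenAt g.base z) (U : Z.Opens) (hz : z ∈ U) :
    FlatMor.fibreDimAt g z ≤
      topologicalKrullDim ↥((U : Set Z) ∩ g.base ⁻¹' {genericPoint (Spec (CommRingCat.of V))}) := by
  set gU := U.ι ≫ g with hgU
  let zU : ↥(U.toScheme) := ⟨z, hz⟩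
  have hopenU : EGA43.IsOpenAt gU.base zU := by
    intro N hN
    have h1 : U.ι.base '' N ∈ nhds z := by
      have := U.ι.isOpenEmbedding.isOpenMap.image_mem_nhds hN
      exact this
    have h2 := hopen _ h1
    have h3 : gU.base '' N = g.base '' (U.ι.base '' N) := by
      rw [← Set.image_comp]; rfl
    rw [h3]
    exact h2
  obtain ⟨ξ, hξz, hξ⟩ := exists_specializes_map_eq_bot_of_isOpenAt gU zU hopenU
  have hξ' : gU.base ξ = genericPoint (Spec (CommRingCat.of V)) := by
    rw [genericPoint_eq_bot_of_affine]; exact hξ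
  have h1 := dim_closure_asFiber_le_of_specializes gU zU ξ hξz hξ'
    (dvd_total_stalk_of_valuationRing V _)
  have hmaxU : IsMax (gU.asFiber zU) := by
    rw [isMax_asFiber_iff]
    intro x' hx' hsp
    have h2 : U.ι.base x' ⤳ z := hsp.map U.ι.continuous
    have h3 := hmax (U.ι.base x') hx' h2
    exact U.ι.isEmbedding.isInducing.specializes_iff.mp h3
  rw [dim_closure_asFiber_eq_fibreDimAt_of_isMax_asFiber gU zU hmaxU, fibreDimAt_ι_comp g U zU]
    at h1
  have h2 : topologicalKrullDim ↥(closure ({gU.asFiber ξ} : Set ↥(gU.fiber (gU.base ξ)))) ≤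
      topologicalKrullDim ↥(gU.fiber (gU.base ξ)) := topologicalKrullDim_subspace_le _ _
  rw [dim_fiber_congr gU hξ', dim_fiber_comp_eq U.ι g, Scheme.Opens.range_ι] at h2
  exact h1.trans h2

end Groth.Agent.H17.Val
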