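import Mathlib

set_option autoImplicit false
set_option linter.style.haveILetI false
universe u

namespace Groth.Agent.H17.Val

/-- in a ring with total divisibility, a nonempty finite family has an element dividing all the
others -/
theorem exists_dvd_all {V : Type*} [CommRing V] (hV : ∀ a b : V, a ∣ b ∨ b ∣ a) {ι : Type*}
    (s : Finset ι) (hs : s.Nonempty) (c : ι → V) : ∃ i ∈ s, ∀ j ∈ s, c i ∣ c j := by
  classical
  induction hs using Finset.Nonempty.cons_induction with
  | singleton a => exact ⟨a, Finset.mem_singleton_self a, fun j hj => by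
      rw [Finset.mem_singleton] at hj; rw [hj]⟩
  | cons a s ha hs ih =>
    obtain ⟨i, his, hi⟩ := ih
    rcases hV (c a) (c i) with h | h
    · refine ⟨a, Finset.mem_cons_self a s, fun j hj => ?_⟩
      rw [Finset.mem_cons] at hj
      rcases hj with rfl | hj
      · exact dvd_rfl
      · exact h.trans (hi j hj)
    · refine ⟨i, Finset.mem_cons.mpr (Or.inr his), fun j hj => ?_⟩
      rw [Finset.mem_cons] at hj
      rcases hj with rfl | hj
      · exact h
      · exact hi j hj

/-- a nonzero polynomial over a domain with total divisibility is a constant times a polynomial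
with a coefficient equal to one -/
theorem exists_eq_C_mul {V : Type*} [CommRing V] [IsDomain V] (hV : ∀ a b : V, a ∣ b ∨ b ∣ a)
    {σ : Type*} (p : MvPolynomial σ V) (hp : p ≠ 0) :
    ∃ (a : V) (q : MvPolynomial σ V) (m : σ →₀ ℕ), a ≠ 0 ∧ p = MvPolynomial.C a * q ∧
      q.coeff m = 1 := by
  classical
  have hs : p.support.Nonempty := by
    rw [Finset.nonempty_iff_ne_empty, Ne, MvPolynomial.support_eq_empty]; exact hp
  obtain ⟨m, hm, hdiv⟩ := exists_dvd_all hV p.support hs (fun m => p.coeff m)
  have ha : p.coeff m ≠ 0 := MvPolynomial.mem_support_iff.mp hm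
  have hC : MvPolynomial.C (p.coeff m) ∣ p := by
    rw [MvPolynomial.C_dvd_iff_dvd_coeff]
    intro j
    by_cases hj : j ∈ p.support
    · exact hdiv j hj
    · rw [MvPolynomial.notMem_support_iff.mp hj]; exact dvd_zero _
  obtain ⟨q, hq⟩ := hC
  refine ⟨p.coeff m, q, m, ha, hq, ?_⟩
  have h1 := congrArg (MvPolynomial.coeff m) hq
  rw [MvPolynomial.coeff_C_mul] at h1
  have h2 : p.coeff m * 1 = p.coeff m * q.coeff m := by rw [mul_one]; exact h1
  exact (mul_left_cancel₀ ha h2).symm

/-- **Residue transcendence degree inequality over a valuation ring.** -/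
theorem trdeg_le_of_dvd_total
    {V B k k' L : Type u} [CommRing V] [IsDomain V] (hV : ∀ a b : V, a ∣ b ∨ b ∣ a) [CommRing B]
    [Field k] [Field k'] [Field L]
    (φ : V →+* B) (ψ : B →+* L) (πV : V →+* k) (πB : B →+* k') (φbar : k →+* k')
    (hπB : Function.Surjective πB) (hker : ∀ b, ψ b = 0 → πB b = 0)
    (hcomm : φbar.comp πV = πB.comp φ) (hinj : Function.Injective (ψ.comp φ)) :
    @Algebra.trdeg k k' _ _ φbar.toAlgebra ≤ @Algebra.trdeg V L _ _ (ψ.comp φ).toAlgebra := by
  letI : Algebra k k' := φbar.toAlgebra
  letI : Algebra V L := (ψ.comp φ).toAlgebra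
  letI : Algebra V B := φ.toAlgebra
  unfold Algebra.trdeg
  refine ciSup_le' fun s => ?_
  obtain ⟨s, hs⟩ := s
  -- lift the elements of `s`
  choose c hc using hπB
  let x : s → L := fun i => ψ (c i.1)
  have hx : AlgebraicIndependent V x := by
    rw [algebraicIndependent_iff]
    intro p hp0
    by_contra hp
    obtain ⟨a, q, m, ha, hpq, hqm⟩ := exists_eq_C_mul hV p hp
    rw [hpq, map_mul, MvPolynomial.aeval_C] at hp0
    have ha' : algebraMap V L a ≠ 0 := by
      intro h0
      exact ha (hinj (by rw [map_zero]; exact h0))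
    have hq0 : MvPolynomial.aeval x q = 0 := (mul_eq_zero.mp hp0).resolve_left ha'
    -- push through ψ
    have h1 : MvPolynomial.aeval x q = ψ (MvPolynomial.aeval (fun i : s => c i.1) q) := by
      rw [MvPolynomial.aeval_def, MvPolynomial.aeval_def, MvPolynomial.eval₂_comp_right,
        MvPolynomial.eval₂_map]
      rfl
    rw [h1] at hq0
    have h2 := hker _ hq0
    -- push through πB
    have h3 : πB (MvPolynomial.aeval (fun i : s => c i.1) q) =
        MvPolynomial.aeval (fun i : s => (i : k')) (MvPolynomial.map πV q) := by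
      rw [MvPolynomial.aeval_def, MvPolynomial.eval₂_comp_right, MvPolynomial.eval₂_map,
        MvPolynomial.aeval_def, MvPolynomial.eval₂_map]
      congr 1
      · exact hcomm.symm
      · funext i
        exact hc i.1
    rw [h3] at h2
    have h4 : MvPolynomial.map πV q = 0 := by
      have := (algebraicIndependent_iff.mp hs) _ h2
      exact this
    have h5 := congrArg (MvPolynomial.coeff m) h4
    rw [MvPolynomial.coeff_map, hqm, map_one, MvPolynomial.coeff_zero] at h5
    exact one_ne_zero h5
  exact hx.cardinalMk_le_trdeg
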