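import Groth.Agent.H17.Val.ValGeo
import Groth.Agent.H17.Val.ValStalk

set_option autoImplicit false
set_option linter.style.haveILetI false
universe u
open CategoryTheory AlgebraicGeometry Limits

namespace Groth.Agent.H17.Val

open Groth.Agent.H17.Chev

theorem dvd_total_stalk_congr {Y : Scheme.{u}} {y y' : Y} (h : y' = y)
    (hV : ∀ a b : Y.presheaf.stalk y, a ∣ b ∨ b ∣ a) :
    ∀ a b : Y.presheaf.stalk y', a ∣ b ∨ b ∣ a := by
  subst h; exact hV

theorem base_fiberι {X Y : Scheme.{u}} (f : X ⟶ Y) (y : Y) (ζ : ↥(f.fiber y)) :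
    f.base ((f.fiberι y).base ζ) = y := by
  have : (f.fiberι y).base ζ ∈ Set.range (f.fiberι y).base := ⟨ζ, rfl⟩
  rw [Scheme.Hom.range_fiberι] at this
  exact this

/-- **EGA IV 14.3.10**: over a point whose local ring is a valuation ring, a nonempty fibre of a
dominant morphism locally of finite type from an irreducible scheme has the dimension of the
generic fibre. -/
theorem dim_fiber_eq_dim_generic_fiber {X Y : Scheme.{u}} [IsIntegral Y] [IrreducibleSpace X]
    (f : X ⟶ Y) [LocallyOfFiniteType f] [IsDominant f] (y : Y)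
    (hV : ∀ a b : Y.presheaf.stalk y, a ∣ b ∨ b ∣ a) (h0 : Nonempty ↥(f.fiber y)) :
    topologicalKrullDim ↥(f.fiber y) = topologicalKrullDim ↥(f.fiber (genericPoint Y)) := by
  have hlft : LocallyOfFiniteType (f.fiberToSpecResidueField y) :=
    inferInstanceAs (LocallyOfFiniteType (pullback.snd f (Y.fromSpecResidueField y)))
  have hFN : IsLocallyNoetherian (f.fiber y) :=
    LocallyOfFiniteType.isLocallyNoetherian (f.fiberToSpecResidueField y)
  apply le_antisymm
  · by_contra hcon
    rw [not_le] at hcon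
    obtain ⟨ζ, hmax, hζ⟩ := exists_isMax_lt_fibreDimAt f y _ hcon
    have hfz := base_fiberι f y ζ
    have := fibreDimAt_eq_dim_generic_fiber f _ (isMax_asFiber_fiberι f y ζ hmax)
      (dvd_total_stalk_congr hfz hV)
    rw [this] at hζ
    exact lt_irrefl _ hζ
  · obtain ⟨w⟩ := h0
    obtain ⟨ζ, hmax, -⟩ := exists_isMax_specializes (f.fiber y) w
    have hfz := base_fiberι f y ζ
    have := fibreDimAt_eq_dim_generic_fiber f _ (isMax_asFiber_fiberι f y ζ hmax)
      (dvd_total_stalk_congr hfz hV)
    rw [← this, ← dim_fiber_congr f hfz]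
    exact fibreDimAt_le_dim_fiber f _

/-- every irreducible component of such a fibre has the dimension of the generic fibre -/
theorem dim_irreducibleComponent_fiber_eq_dim_generic_fiber {X Y : Scheme.{u}} [IsIntegral Y]
    [IrreducibleSpace X]
    (f : X ⟶ Y) [LocallyOfFiniteType f] [IsDominant f] (y : Y)
    (hV : ∀ a b : Y.presheaf.stalk y, a ∣ b ∨ b ∣ a) (Z : Set ↥(f.fiber y))
    (hZ : Z ∈ irreducibleComponents ↥(f.fiber y)) :
    topologicalKrullDim ↥Z = topologicalKrullDim ↥(f.fiber (genericPoint Y)) := by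
  have hlft : LocallyOfFiniteType (f.fiberToSpecResidueField y) :=
    inferInstanceAs (LocallyOfFiniteType (pullback.snd f (Y.fromSpecResidueField y)))
  have hZc : IsClosed Z := isClosed_of_mem_irreducibleComponents Z hZ
  obtain ⟨ζ, hζ⟩ : ∃ ζ, IsGenericPoint ζ Z := ⟨_, hZ.1.isGenericPoint_genericPoint hZc⟩
  have hmax : IsMax ζ := isMax_of_isGenericPoint_irreducibleComponent _ Z hZ ζ hζ
  rw [dim_irreducibleComponent_eq_localDim (Y.residueField y) (f.fiberToSpecResidueField y) Z hZ
    ζ hζ, localDim_fiber_eq_fibreDimAt]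
  exact fibreDimAt_eq_dim_generic_fiber f _ (isMax_asFiber_fiberι f y ζ hmax)
    (dvd_total_stalk_congr (base_fiberι f y ζ) hV)

end Groth.Agent.H17.Val
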