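import Groth.Agent.H17.Val.ValAlg
import Groth.Agent.H17.DimIneq
import Groth.Prelude.Def_Dual3

set_option autoImplicit false
set_option linter.style.haveILetI false
universe u
open CategoryTheory AlgebraicGeometry

namespace Groth.Agent.H17.Val

/-- For an integral scheme, the map from a stalk to the residue field at the generic point is
injective. -/
theorem injective_stalk_to_residueField_generic {Y : Scheme.{u}} [IsIntegral Y] (y η : Y)
    (hη : η = genericPoint Y) (hsp : η ⤳ y) :
    Function.Injective (Y.presheaf.stalkSpecializes hsp ≫ Y.residue η).hom := by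
  subst hη
  have h1 : Function.Injective (Y.presheaf.stalkSpecializes hsp).hom :=
    IsFractionRing.injective (Y.presheaf.stalk y) Y.functionField
  have h2 : Function.Injective (Y.residue (genericPoint Y)).hom := by
    letI : Field (Y.presheaf.stalk (genericPoint Y)) :=
      inferInstanceAs (Field Y.functionField)
    exact RingHom.injective _
  rw [CommRingCat.hom_comp]
  exact h2.comp h1

/-- For an integral scheme, the residue field at the generic point is algebraic over any stalk. -/
theorem isAlgebraic_stalk_to_residueField_generic {Y : Scheme.{u}} [IsIntegral Y] (y η : Y)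
    (hη : η = genericPoint Y) (hsp : η ⤳ y) :
    letI := (Y.presheaf.stalkSpecializes hsp ≫ Y.residue η).hom.toAlgebra
    Algebra.IsAlgebraic (Y.presheaf.stalk y) (Y.residueField η) := by
  subst hη
  letI := (Y.presheaf.stalkSpecializes hsp ≫ Y.residue (genericPoint Y)).hom.toAlgebra
  haveI : Algebra.IsAlgebraic (Y.presheaf.stalk y) Y.functionField :=
    IsLocalization.isAlgebraic Y.functionField (nonZeroDivisors (Y.presheaf.stalk y))
  exact Algebra.IsAlgebraic.ringHom_of_comp_eq (R := Y.presheaf.stalk y)
    (S := Y.presheaf.stalk y) (A := Y.functionField) (B := Y.residueField (genericPoint Y))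
    (RingHom.id _) (Y.residue (genericPoint Y)).hom Function.injective_id
    (Y.residue_surjective _) rfl

end Groth.Agent.H17.Val

namespace Groth.Agent.H17.Val

/-- **Residue transcendence degrees do not go up under specialization over a valuation ring.** -/
theorem resTrdeg_le_of_specializes {X Y : Scheme.{u}} [IsIntegral Y] (f : X ⟶ Y)
    (x ξ : X) (h : ξ ⤳ x) (hξ : f ξ = genericPoint Y)
    (hV : ∀ a b : Y.presheaf.stalk (f x), a ∣ b ∨ b ∣ a) :
    Dual3.resTrdeg f x ≤ Dual3.resTrdeg f ξ := by
  have h' : f ξ ⤳ f x := f.base.hom.map_specializes h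
  let φ := (f.stalkMap x).hom
  let ψ := (X.presheaf.stalkSpecializes h ≫ X.residue ξ).hom
  let θ := (Y.presheaf.stalkSpecializes h' ≫ Y.residue (f ξ)).hom
  let ρ := (f.residueFieldMap ξ).hom
  have hcomp : ψ.comp φ = ρ.comp θ := by
    have : f.stalkMap x ≫ X.presheaf.stalkSpecializes h ≫ X.residue ξ =
        (Y.presheaf.stalkSpecializes h' ≫ Y.residue (f ξ)) ≫ f.residueFieldMap ξ := by
      rw [← Scheme.Hom.stalkSpecializes_stalkMap_assoc, Category.assoc,
        Scheme.residue_residueFieldMap]
    exact congrArg CommRingCat.Hom.hom this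
  have hθinj : Function.Injective θ := injective_stalk_to_residueField_generic (f x) (f ξ) hξ h'
  have hinj : Function.Injective (ψ.comp φ) := by
    rw [hcomp]; exact ρ.injective.comp hθinj
  have hker : ∀ b, ψ b = 0 → (X.residue x).hom b = 0 := by
    intro b hb
    by_contra hne
    have hu : IsUnit b := (IsLocalRing.residue_ne_zero_iff_isUnit b).mp hne
    exact (hu.map ψ).ne_zero hb
  have hcomm : (f.residueFieldMap x).hom.comp (Y.residue (f x)).hom =
      (X.residue x).hom.comp φ :=
    congrArg CommRingCat.Hom.hom (Scheme.residue_residueFieldMap f x)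
  have key := trdeg_le_of_dvd_total hV φ ψ (Y.residue (f x)).hom (X.residue x).hom
    (f.residueFieldMap x).hom (X.residue_surjective x) hker hcomm hinj
  refine key.trans (le_of_eq ?_)
  letI i1 : Algebra (Y.presheaf.stalk (f x)) (Y.residueField (f ξ)) := θ.toAlgebra
  letI i2 : Algebra (Y.residueField (f ξ)) (X.residueField ξ) := ρ.toAlgebra
  letI i3 : Algebra (Y.presheaf.stalk (f x)) (X.residueField ξ) := (ψ.comp φ).toAlgebra
  haveI : IsScalarTower (Y.presheaf.stalk (f x)) (Y.residueField (f ξ)) (X.residueField ξ) :=
    IsScalarTower.of_algebraMap_eq' hcomp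
  haveI : FaithfulSMul (Y.presheaf.stalk (f x)) (Y.residueField (f ξ)) :=
    (faithfulSMul_iff_algebraMap_injective _ _).mpr hθinj
  haveI : FaithfulSMul (Y.residueField (f ξ)) (X.residueField ξ) :=
    (faithfulSMul_iff_algebraMap_injective _ _).mpr ρ.injective
  haveI : Algebra.IsAlgebraic (Y.presheaf.stalk (f x)) (Y.residueField (f ξ)) :=
    isAlgebraic_stalk_to_residueField_generic (f x) (f ξ) hξ h'
  exact Groth.Agent.H17.DimIneq.trdeg_eq_of_isAlgebraic_bot (Y.presheaf.stalk (f x))
    (Y.residueField (f ξ)) (X.residueField ξ)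

end Groth.Agent.H17.Val
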