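import Groth.Agent.H17.Val.GenLift
import Groth.Agent.H17.Val.DenseOpen
import Groth.Agent.H17.Chev.FlatLC5

set_option autoImplicit false
set_option linter.style.haveILetI false
universe u
open CategoryTheory AlgebraicGeometry Limits Topology TopologicalSpace

namespace Groth.Agent.H17.Val

open Groth.Agent.H17.Chev

/-- Over a valuation ring: for a closed set `D` all of whose points over `c` are specializations of
points of `D` over the generic point, the fibre dimension of `D` over `c` is at most that over the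
generic point. -/
theorem dim_closed_inter_fibre_le_generic {V : Type u} [CommRing V] [IsDomain V] [ValuationRing V]
    {X : Scheme.{u}} (f : X ⟶ Spec (CommRingCat.of V)) [LocallyOfFiniteType f]
    (D : Set X) (hD : IsClosed D) (η c : Spec (CommRingCat.of V))
    (hη : η = genericPoint (Spec (CommRingCat.of V)))
    (hgen : ∀ z ∈ D, f.base z = c → ∃ ξ ∈ D, f.base ξ = η ∧ ξ ⤳ z) :
    topologicalKrullDim ↥(D ∩ f.base ⁻¹' {c}) ≤ topologicalKrullDim ↥(D ∩ f.base ⁻¹' {η}) := by
  obtain ⟨X₁, i, hi, hr⟩ := exists_closedImmersion_range X D hD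
  subst hr
  rw [← dim_fiber_comp_eq i f c, ← dim_fiber_comp_eq i f η]
  set fD := i ≫ f with hfD
  by_contra hcon
  rw [not_le] at hcon
  obtain ⟨ζ, hζmax, hζ⟩ := exists_isMax_lt_fibreDimAt fD c _ hcon
  set z := (fD.fiberι c).base ζ with hz
  have hfz : fD.base z = c := by
    have : z ∈ Set.range (fD.fiberι c).base := ⟨ζ, rfl⟩
    rw [Scheme.Hom.range_fiberι] at this
    exact this
  obtain ⟨ξ₀, ⟨ξ, rfl⟩, hξη, hξz⟩ := hgen (i.base z) ⟨z, rfl⟩ hfz
  have hξz' : ξ ⤳ z := i.isEmbedding.isInducing.specializes_iff.mp hξz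
  have hξη' : fD.base ξ = genericPoint (Spec (CommRingCat.of V)) := by
    rw [← hη]; exact hξη
  have h1 := dim_closure_asFiber_le_of_specializes fD z ξ hξz' hξη'
    (dvd_total_stalk_of_valuationRing V _)
  rw [dim_closure_asFiber_eq_fibreDimAt_of_isMax_asFiber fD z (isMax_asFiber_fiberι fD c ζ hζmax)]
    at h1
  have h2 : topologicalKrullDim ↥(closure ({fD.asFiber ξ} : Set ↥(fD.fiber (fD.base ξ)))) ≤
      topologicalKrullDim ↥(fD.fiber (fD.base ξ)) := topologicalKrullDim_subspace_le _ _
  have hξη2 : fD.base ξ = η := hξη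
  rw [dim_fiber_congr fD hξη2] at h2
  exact absurd (hζ.trans_le (h1.trans h2)) (lt_irrefl _)

end Groth.Agent.H17.Val

namespace Groth.Agent.H17.Val

open Groth.Agent.H17.Chev

theorem dim_mono_set {T : Type*} [TopologicalSpace T] {A B : Set T} (h : A ⊆ B) :
    topologicalKrullDim ↥A ≤ topologicalKrullDim ↥B :=
  (IsEmbedding.inclusion h).isInducing.topologicalKrullDim_le

/-- Over a valuation ring, if every point of `T` has a generization in `T` over the generic point,
then the fibre-closure dimension of `T` over any point is bounded by that over the generic point. -/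
theorem dim_fibre_closure_le_generic {V : Type u} [CommRing V] [IsDomain V] [ValuationRing V]
    {X : Scheme.{u}} (f : X ⟶ Spec (CommRingCat.of V)) [LocallyOfFiniteType f] [QuasiCompact f]
    (T : Set X) (η c : Spec (CommRingCat.of V))
    (hη : η = genericPoint (Spec (CommRingCat.of V)))
    (hT : ∀ x ∈ T, ∃ x' ∈ T, x' ⤳ x ∧ f.base x' = η) :
    topologicalKrullDim ↥(f.base ⁻¹' {c} ∩ closure (T ∩ f.base ⁻¹' {c})) ≤
      topologicalKrullDim ↥(f.base ⁻¹' {η} ∩ closure (T ∩ f.base ⁻¹' {η})) := by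
  set D := closure (T ∩ f.base ⁻¹' {η}) with hD
  have hTD : T ⊆ D := by
    intro x hx
    obtain ⟨x', hx'T, hsp, hx'η⟩ := hT x hx
    exact hsp.mem_closed isClosed_closure (subset_closure ⟨hx'T, hx'η⟩)
  have h1 : closure (T ∩ f.base ⁻¹' {c}) ⊆ D :=
    closure_minimal (Set.inter_subset_left.trans hTD) isClosed_closure
  have h2 : topologicalKrullDim ↥(f.base ⁻¹' {c} ∩ closure (T ∩ f.base ⁻¹' {c})) ≤
      topologicalKrullDim ↥(D ∩ f.base ⁻¹' {c}) :=
    dim_mono_set (fun x hx => ⟨h1 hx.2, hx.1⟩)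
  have h3 := dim_closed_inter_fibre_le_generic f D isClosed_closure η c hη (by
    intro z hz _
    obtain ⟨ξ, hξD, hξη, hξz⟩ := exists_specializes_of_mem_closure_of_subset_fibre f η
      (T ∩ f.base ⁻¹' {η}) Set.inter_subset_right z hz
    exact ⟨ξ, hξD, hξη, hξz⟩)
  rw [Set.inter_comm (f.base ⁻¹' {η}) D]
  exact h2.trans h3

end Groth.Agent.H17.Val
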